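import Mathlib

/-!
# Computation with linear maps of the four-dimensional space over two elements

Vectors are the numbers below sixteen, maps are coded by the images of `1, 2, 4, 8`.
-/

set_option autoImplicit false

namespace Cfsg.Agent.Forms.Max.TwoRoot.Codes

/-- scaling by a bit -/
def sc (t : Bool) (v : ℕ) : ℕ := bif t then v else 0

/-- the alternating form with pairs `(1, 4)` and `(2, 8)` -/
def bf (x y : ℕ) : Bool :=
  xor (xor (x.testBit 0 && y.testBit 2) (x.testBit 2 && y.testBit 0))
    (xor (x.testBit 1 && y.testBit 3) (x.testBit 3 && y.testBit 1))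

/-- applying a coded map -/
def app (n x : ℕ) : ℕ :=
  sc (x.testBit 0) (n % 16) ^^^ (sc (x.testBit 1) (n / 16 % 16) ^^^
    (sc (x.testBit 2) (n / 256 % 16) ^^^ sc (x.testBit 3) (n / 4096 % 16)))

/-- the code of a map -/
def mk (f : ℕ → ℕ) : ℕ := f 1 % 16 + 16 * (f 2 % 16) + 256 * (f 4 % 16) + 4096 * (f 8 % 16)

/-- the code of a composition -/
def comp (n k : ℕ) : ℕ := mk fun x => app n (app k x)

/-- the code of the identity -/
def idc : ℕ := mk fun x => x

/-- the action of a radical element -/
def elc (c w : ℕ) (α : Bool) (x : ℕ) : ℕ :=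
  x ^^^ sc (bf x c) w ^^^ sc (bf x w) c ^^^ sc (α && bf x c) c

/-- the four basic elements -/
def gens (ge gh de dh : Bool) : List ℕ :=
  [mk (elc 1 2 ge), mk (elc 1 8 gh), mk (elc 4 2 de), mk (elc 4 8 dh)]

/-- adding new elements -/
def addNew (acc : List ℕ) : List ℕ → List ℕ → List ℕ
  | new, [] => new
  | new, x :: l => bif acc.contains x || new.contains x then addNew acc new l
      else addNew acc (x :: new) l

/-- closing under multiplication by generators, stopping at `cap` elements -/
def grow (gs : List ℕ) (cap : ℕ) : ℕ → List ℕ → List ℕ → List ℕ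
  | 0, acc, _ => acc
  | k + 1, acc, fr =>
    match addNew acc [] (fr.flatMap fun g => gs.map fun s => comp s g) with
    | [] => acc
    | x :: l => bif Nat.ble cap (acc.length + (x :: l).length) then (x :: l) ++ acc
        else grow gs cap k ((x :: l) ++ acc) (x :: l)

/-- the group generated by the four basic elements (at most `cap` rounds) -/
def grp (ge gh de dh : Bool) : List ℕ :=
  grow (gens ge gh de dh) 120 12 [idc] [idc]

/-- the quadratic form of two parameters -/
def qf (ge gh : Bool) (x : ℕ) : Bool :=
  xor (x.testBit 0 && x.testBit 2)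
    (xor (x.testBit 1 && ge) (xor (x.testBit 3 && gh) (x.testBit 1 && x.testBit 3)))

/-- the codes of the isometries -/
def iso (ge gh : Bool) : List ℕ :=
  let q := qf ge gh
  let ok := fun i => (List.range 16).filter fun x => q x == q i
  (ok 1).flatMap fun A => (ok 2).flatMap fun E => bif bf A E then [] else
    (ok 4).flatMap fun C => bif !(bf A C) || bf E C then [] else
      ((ok 8).filter fun H => !(bf A H) && bf E H && !(bf C H)).map fun H =>
        A + 16 * E + 256 * C + 4096 * H

/-- even rank of a coded map minus one -/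
def evenFix (n : ℕ) : Bool :=
  let k := ((List.range 16).filter fun x => app n x == x).length
  k == 16 || k == 4 || k == 1

/-- a reflection outside the group, as a transvection at a non-singular vector -/
def refl (ge gh : Bool) : ℕ :=
  mk fun x => x ^^^ sc (bf x 5) (bif qf ge gh 5 then 5 else 0)

/-- the mask of a function -/
def mask (f : ℕ → Bool) : ℕ :=
  (List.range 16).foldl (fun s x => 2 * s + (bif f x then 1 else 0)) 0

/-- the forms reached from `Q` and `Q + B(v,·)` -/
def forms (ge gh : Bool) (v : ℕ) : List ℕ :=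
  addNew [] [] (mask (qf ge gh) :: (grp ge gh ge gh).map fun m =>
    mask fun x => xor (qf ge gh (app m x)) (bf v (app m x)))

/-- distinctness -/
def nodupB : List ℕ → Bool
  | [] => true
  | x :: l => !(l.contains x) && nodupB l

theorem nodupB_iff : ∀ {l : List ℕ}, nodupB l = true → l.Nodup
  | [], _ => List.nodup_nil
  | x :: l, h => by
    simp only [nodupB, Bool.and_eq_true, Bool.not_eq_true', List.contains_eq_mem,
      decide_eq_false_iff_not] at h
    exact List.nodup_cons.2 ⟨h.1, nodupB_iff h.2⟩

theorem addNew_nodup (acc : List ℕ) : ∀ (l new : List ℕ), new.Nodup → (addNew acc new l).Nodup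
  | [], new, h => h
  | x :: l, new, h => by
    rw [addNew]
    by_cases hc : (acc.contains x || new.contains x) = true
    · rw [hc]; exact addNew_nodup acc l new h
    · rw [Bool.not_eq_true] at hc
      rw [hc]
      refine addNew_nodup acc l _ (List.nodup_cons.2 ⟨?_, h⟩)
      simp only [Bool.or_eq_false_iff, List.contains_eq_mem, decide_eq_false_iff_not] at hc
      exact hc.2

theorem addNew_sub (acc : List ℕ) : ∀ (l new : List ℕ), ∀ y ∈ addNew acc new l, y ∈ new ∨ y ∈ l
  | [], new, y, hy => Or.inl hy
  | x :: l, new, y, hy => by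
    rw [addNew] at hy
    cases hc : (acc.contains x || new.contains x) <;> rw [hc] at hy
    · rcases addNew_sub acc l _ y hy with h | h
      · rcases List.mem_cons.1 h with rfl | h
        · exact Or.inr (List.mem_cons_self)
        · exact Or.inl h
      · exact Or.inr (List.mem_cons_of_mem _ h)
    · rcases addNew_sub acc l _ y hy with h | h
      · exact Or.inl h
      · exact Or.inr (List.mem_cons_of_mem _ h)

theorem grow_prop {gs : List ℕ} (cap : ℕ) {P : ℕ → Prop}
    (hcomp : ∀ s ∈ gs, ∀ g, P g → P (comp s g)) :
    ∀ (k : ℕ) (acc fr : List ℕ), (∀ g ∈ acc, P g) → (∀ g ∈ fr, P g) →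
      ∀ g ∈ grow gs cap k acc fr, P g
  | 0, acc, fr, ha, _, g, hg => ha g hg
  | k + 1, acc, fr, ha, hf, g, hg => by
    rw [grow] at hg
    split at hg
    · exact ha g hg
    next x l heq =>
      have hnew : ∀ y ∈ x :: l, P y := fun y hy => by
        rw [← heq] at hy
        rcases addNew_sub acc _ _ y hy with h | h
        · simp at h
        · obtain ⟨z, hz, h'⟩ := List.mem_flatMap.1 h
          obtain ⟨s, hs, rfl⟩ := List.mem_map.1 h'
          exact hcomp s hs z (hf z hz)
      have hall : ∀ y ∈ (x :: l) ++ acc, P y := fun y hy =>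
        (List.mem_append.1 hy).elim (hnew y) (ha y)
      cases hc : Nat.ble cap (acc.length + (x :: l).length) <;> rw [hc] at hg
      · exact grow_prop cap hcomp k _ _ hall hnew g hg
      · exact hall g hg

/-- unequal parameters give at least 120 elements -/
theorem grp_ne : ∀ ge gh de dh : Bool, (ge, gh) ≠ (de, dh) →
    120 ≤ (grp ge gh de dh).length ∧ nodupB (grp ge gh de dh) = true := by
  decide +kernel

/-- equal parameters give the even isometries -/
theorem grp_eq : ∀ ge gh : Bool,
    nodupB (grp ge gh ge gh) = true ∧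
    (∀ n ∈ iso ge gh, (evenFix n = true ↔ n ∈ grp ge gh ge gh) ∧
      (n ∉ grp ge gh ge gh → comp n (refl ge gh) ∈ grp ge gh ge gh) ∧
      comp (comp n (refl ge gh)) (refl ge gh) = n) ∧
    (∀ n ∈ grp ge gh ge gh, ∀ x < 16, qf ge gh (app n x) = qf ge gh x) := by
  decide +kernel

/-- enough forms -/
theorem forms_large : ∀ ge gh : Bool, ∀ v < 16, v ≠ 0 →
    120 ≤ (forms ge gh v).length * (grp ge gh ge gh).length := by
  decide +kernel

theorem bf_sep : ∀ x < 16, ∀ y < 16, (∀ k < 16, bf x k = bf y k) → x = y := by decide +kernel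

theorem qf_polar : ∀ ge gh : Bool, ∀ x < 16, ∀ y < 16,
    qf ge gh (x ^^^ y) = xor (xor (qf ge gh x) (qf ge gh y)) (bf x y) := by decide +kernel

end Cfsg.Agent.Forms.Max.TwoRoot.Codes
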