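import Mathlib
import Cfsg.Agent.Lib.Forms.Max.TwoRoot.Quad
import Cfsg.Agent.Lib.Forms.Max.TwoRoot.Small.Codes

/-!
# Coordinates in the four-dimensional space over two elements
-/

set_option autoImplicit false
set_option linter.unusedSectionVars false

namespace Cfsg.Agent.Forms.Max.TwoRoot

open Matrix Cfsg.Agent.Aschbacher Cfsg.Agent.Forms.SympStd Cfsg.Agent.Forms.Max Codes

variable {F : Type*} [Field F] [CharP F 2]

local notation "Vec" => (Fin 2 ⊕ Fin 2 → F)
local notation "GLm" => GL (Fin 2 ⊕ Fin 2) F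
local notation "B" => sympB 2 F
local notation "Mat" => Matrix (Fin 2 ⊕ Fin 2) (Fin 2 ⊕ Fin 2) F

/-- bits as field elements -/
def bc (t : Bool) : F := bif t then 1 else 0

theorem bc_xor (p q : Bool) : (bc (xor p q) : F) = bc p + bc q := by
  cases p <;> cases q <;> simp [bc, CharTwo.add_self_eq_zero]

theorem bc_and (p q : Bool) : (bc (p && q) : F) = bc p * bc q := by
  cases p <;> cases q <;> simp [bc]

theorem bc_inj {p q : Bool} (h : (bc p : F) = bc q) : p = q := by
  cases p <;> cases q <;> simp_all [bc]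

theorem bc_surj [Fintype F] (hF : Fintype.card F = 2) (t : F) : ∃ p : Bool, bc p = t := by
  classical
  have h : (Finset.univ : Finset F) = {0, 1} := by
    refine (Finset.eq_univ_of_card _ ?_).symm
    rw [hF, Finset.card_pair zero_ne_one]
  have := Finset.mem_univ t
  rw [h] at this
  simp only [Finset.mem_insert, Finset.mem_singleton] at this
  rcases this with rfl | rfl
  exacts [⟨false, rfl⟩, ⟨true, rfl⟩]

/-- a symplectic frame -/
structure Frame (F : Type*) [Field F] where of ::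
  /-- first vector -/
  a : Fin 2 ⊕ Fin 2 → F
  /-- second vector -/
  e : Fin 2 ⊕ Fin 2 → F
  /-- partner of the first -/
  b : Fin 2 ⊕ Fin 2 → F
  /-- partner of the second -/
  h : Fin 2 ⊕ Fin 2 → F
  ab : sympB 2 F a b = 1
  eh : sympB 2 F e h = 1
  ae : sympB 2 F a e = 0
  ah : sympB 2 F a h = 0
  be : sympB 2 F b e = 0
  bh : sympB 2 F b h = 0

namespace Frame

variable (f : Frame F)

/-- the vector with given coordinates -/
def vec (x : ℕ) : Vec :=
  (bc (x.testBit 0) : F) • f.a + (bc (x.testBit 1) : F) • f.e + (bc (x.testBit 2) : F) • f.b +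
    (bc (x.testBit 3) : F) • f.h

theorem vec_xor (x y : ℕ) : f.vec (x ^^^ y) = f.vec x + f.vec y := by
  simp only [vec, Nat.testBit_xor, bc_xor]
  module

theorem vec_sc (t : Bool) (x : ℕ) : f.vec (sc t x) = (bc t : F) • f.vec x := by
  cases t <;> simp [sc, bc, vec]

theorem vec_one : f.vec 1 = f.a := by simp [vec, bc, Nat.testBit]
theorem vec_two : f.vec 2 = f.e := by simp [vec, bc, Nat.testBit]
theorem vec_four : f.vec 4 = f.b := by simp [vec, bc, Nat.testBit]
theorem vec_eight : f.vec 8 = f.h := by simp [vec, bc, Nat.testBit]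

theorem vec_mod (x : ℕ) : f.vec (x % 16) = f.vec x := by
  simp only [vec, show (16 : ℕ) = 2 ^ 4 from rfl, Nat.testBit_mod_two_pow]
  simp

theorem vec_bits (x : ℕ) : f.vec x = (bc (x.testBit 0) : F) • f.vec 1 + (bc (x.testBit 1) : F) • f.vec 2 +
    (bc (x.testBit 2) : F) • f.vec 4 + (bc (x.testBit 3) : F) • f.vec 8 := by
  rw [vec_one, vec_two, vec_four, vec_eight]; rfl

theorem B_vec (x y : ℕ) : B (f.vec x) (f.vec y) = bc (bf x y) := by
  simp only [vec, bf, bc_xor, bc_and, map_add, map_smul, LinearMap.add_apply, LinearMap.smul_apply,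
    smul_eq_mul, Symp.B_self, f.ab, f.eh, f.ae, f.ah, f.be, f.bh, B_comm f.a f.b, B_comm f.a f.e,
    B_comm f.a f.h, B_comm f.e f.h, B_comm f.b f.e, B_comm f.b f.h, B_comm f.e f.b, B_comm f.h f.b]
  ring

theorem vec_inj {x y : ℕ} (hx : x < 16) (hy : y < 16) (h : f.vec x = f.vec y) : x = y :=
  bf_sep x hx y hy fun k _ => bc_inj (F := F) (by rw [← f.B_vec, ← f.B_vec, h])

variable [Fintype F] (hF : Fintype.card F = 2)
include hF

theorem vec_surj (v : Vec) : ∃ x < 16, f.vec x = v := by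
  classical
  have hinj : Function.Injective fun x : Fin 16 => f.vec x := fun x y h =>
    Fin.ext (f.vec_inj x.2 y.2 h)
  have hbij := (Fintype.bijective_iff_injective_and_card _).2
    ⟨hinj, by rw [Fintype.card_fin, Fintype.card_fun, hF]; simp⟩
  obtain ⟨x, hx⟩ := hbij.2 v
  exact ⟨x, x.2, hx⟩

/-- the coordinates of a vector -/
noncomputable def enc (v : Vec) : ℕ := (f.vec_surj hF v).choose

theorem enc_lt (v : Vec) : f.enc hF v < 16 := (f.vec_surj hF v).choose_spec.1

theorem vec_enc (v : Vec) : f.vec (f.enc hF v) = v := (f.vec_surj hF v).choose_spec.2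

theorem enc_vec {x : ℕ} (hx : x < 16) : f.enc hF (f.vec x) = x :=
  f.vec_inj (f.enc_lt hF _) hx (f.vec_enc hF _)

omit hF in
theorem map_vec {g : GLm} (x : ℕ) : (g : Mat) *ᵥ f.vec x =
    (bc (x.testBit 0) : F) • ((g : Mat) *ᵥ f.vec 1) + (bc (x.testBit 1) : F) • ((g : Mat) *ᵥ f.vec 2) +
    (bc (x.testBit 2) : F) • ((g : Mat) *ᵥ f.vec 4) + (bc (x.testBit 3) : F) • ((g : Mat) *ᵥ f.vec 8) := by
  conv_lhs => rw [f.vec_bits x]
  simp only [mulVec_add, mulVec_smul]

theorem ext_basis {g g' : GLm}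
    (h : ∀ i ∈ [1, 2, 4, 8], (g : Mat) *ᵥ f.vec i = (g' : Mat) *ᵥ f.vec i) : g = g' :=
  gl_ext fun v => by
    rw [← f.vec_enc hF v, f.map_vec (g := g), f.map_vec (g := g'), h 1 (by simp), h 2 (by simp),
      h 4 (by simp), h 8 (by simp)]

omit hF

/-- codes of elements of a subgroup -/
def Real (L : Subgroup GLm) (n : ℕ) : Prop :=
  n < 65536 ∧ ∃ g ∈ L, ∀ x, (g : Mat) *ᵥ f.vec x = f.vec (app n x)

theorem app_basis (n : ℕ) : app n 1 = n % 16 ∧ app n 2 = n / 16 % 16 ∧ app n 4 = n / 256 % 16 ∧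
    app n 8 = n / 4096 % 16 := by
  refine ⟨?_, ?_, ?_, ?_⟩ <;> simp [app, sc, Nat.testBit]

theorem app_mk (φ : ℕ → ℕ) {i : ℕ} (hi : i ∈ [1, 2, 4, 8]) : app (mk φ) i = φ i % 16 := by
  simp only [List.mem_cons, List.not_mem_nil, or_false] at hi
  have h1 : mk φ % 16 = φ 1 % 16 := by unfold mk; omega
  have h2 : mk φ / 16 % 16 = φ 2 % 16 := by unfold mk; omega
  have h3 : mk φ / 256 % 16 = φ 4 % 16 := by unfold mk; omega
  have h4 : mk φ / 4096 % 16 = φ 8 % 16 := by unfold mk; omega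
  rcases hi with rfl | rfl | rfl | rfl <;> simp [app, sc, h1, h2, h3, h4, Nat.testBit]

theorem mk_lt (φ : ℕ → ℕ) : mk φ < 65536 := by unfold mk; omega

theorem real_of_basis {L : Subgroup GLm} {g : GLm} (hg : g ∈ L) {φ : ℕ → ℕ}
    (h : ∀ i ∈ [1, 2, 4, 8], (g : Mat) *ᵥ f.vec i = f.vec (φ i)) : f.Real L (mk φ) := by
  refine ⟨mk_lt φ, g, hg, fun x => ?_⟩
  have e : ∀ i ∈ [1, 2, 4, 8], (g : Mat) *ᵥ f.vec i = f.vec (app (mk φ) i) := fun i hi => by
    rw [app_mk φ hi, f.vec_mod, h i hi]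
  rw [f.map_vec x, e 1 (by simp), e 2 (by simp), e 4 (by simp), e 8 (by simp)]
  obtain ⟨a1, a2, a3, a4⟩ := app_basis (mk φ)
  rw [a1, a2, a3, a4]
  simp only [app, f.vec_xor, f.vec_sc]
  abel

theorem real_idc {L : Subgroup GLm} : f.Real L idc :=
  f.real_of_basis (one_mem L) fun i _ => by rw [Units.val_one, one_mulVec]

theorem real_comp {L : Subgroup GLm} {n k : ℕ} (hn : f.Real L n) (hk : f.Real L k) :
    f.Real L (comp n k) := by
  obtain ⟨-, g, hg, hgx⟩ := hn
  obtain ⟨-, g', hg', hgx'⟩ := hk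
  exact f.real_of_basis (mul_mem hg hg') fun i _ => by rw [mulVec_mul_GL, hgx', hgx]

theorem real_el {L : Subgroup GLm} {c w : ℕ} {t : Bool} (hcw : bf c w = false)
    (h : el (f.vec c) (f.vec w) (bc t) ∈ L) : f.Real L (mk (elc c w t)) := by
  refine f.real_of_basis h fun x _ => ?_
  rw [el_apply (by rw [f.B_vec, hcw]; rfl), elc]
  simp only [f.vec_xor, f.vec_sc, f.B_vec, bc_and]

theorem code_inj {n k : ℕ} (hn : n < 65536) (hk : k < 65536)
    (h : ∀ i ∈ [1, 2, 4, 8], f.vec (app n i) = f.vec (app k i)) : n = k := by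
  obtain ⟨a1, a2, a3, a4⟩ := app_basis n
  obtain ⟨b1, b2, b3, b4⟩ := app_basis k
  have e1 := f.vec_inj (by rw [a1]; omega) (by rw [b1]; omega) (h 1 (by simp))
  have e2 := f.vec_inj (by rw [a2]; omega) (by rw [b2]; omega) (h 2 (by simp))
  have e3 := f.vec_inj (by rw [a3]; omega) (by rw [b3]; omega) (h 4 (by simp))
  have e4 := f.vec_inj (by rw [a4]; omega) (by rw [b4]; omega) (h 8 (by simp))
  omega

include hF in
/-- distinct codes give distinct elements -/
theorem card_le {L : Subgroup GLm} {M : List ℕ} (hM : ∀ n ∈ M, f.Real L n) (hnd : M.Nodup) :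
    M.length ≤ Nat.card L := by
  classical
  rw [← List.toFinset_card_of_nodup hnd, ← Nat.card_eq_finsetCard]
  refine Nat.card_le_card_of_injective (fun n => ⟨(hM n.1 (List.mem_toFinset.1 n.2)).2.choose,
    (hM n.1 (List.mem_toFinset.1 n.2)).2.choose_spec.1⟩) fun n k h => Subtype.ext ?_
  have hn := hM n.1 (List.mem_toFinset.1 n.2)
  have hk := hM k.1 (List.mem_toFinset.1 k.2)
  refine f.code_inj hn.1 hk.1 fun i _ => ?_
  rw [← hn.2.choose_spec.2 i, ← hk.2.choose_spec.2 i]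
  exact congrArg (fun g : L => ((g : GLm) : Mat) *ᵥ f.vec i) h

end Frame

end Cfsg.Agent.Forms.Max.TwoRoot
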