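import Mathlib
import Cfsg.Agent.S0247
import Cfsg.Agent.Lib.Perm.IndexSix
import Cfsg.Agent.Lib.Forms.Max.TwoRoot.Basic

/-!
# Large subgroups of the symplectic group of dimension four over two elements
-/

set_option autoImplicit false
set_option linter.unusedSectionVars false

namespace Cfsg.Agent.Forms.Max.TwoRoot

open Matrix Cfsg.Agent.Aschbacher Cfsg.Agent.Forms.SympStd Cfsg.Agent.Forms.Max

variable {F : Type*} [Field F]

theorem exists_spGL_equiv (m : ℕ) :
    Nonempty (Cfsg.spGL m F ≃* symplecticGroup (Fin m) F) := by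
  refine ⟨MulEquiv.ofBijective (F := ↥(Cfsg.spGL m F) →* ↥(symplecticGroup (Fin m) F))
    { toFun := fun g => ⟨((g : GL (Fin m ⊕ Fin m) F) : Matrix _ _ F), mem_sp_iff.2 fun u v => g.2 u v⟩
      map_one' := Subtype.ext rfl
      map_mul' := fun _ _ => Subtype.ext rfl } ⟨fun g g' h => ?_, fun A => ?_⟩⟩
  · exact Subtype.ext (Units.ext (congrArg Subtype.val h))
  · refine ⟨⟨⟨A.1, (A⁻¹).1, congrArg Subtype.val (mul_inv_cancel A), congrArg Subtype.val (inv_mul_cancel A)⟩,
      fun u v => ?_⟩, Subtype.ext rfl⟩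
    exact mem_sp_iff.1 A.2 u v

theorem large_cases [Fintype F] (hF : Fintype.card F = 2) {L : Subgroup (GL (Fin 2 ⊕ Fin 2) F)}
    (hle : L ≤ Cfsg.spGL 2 F) (h : 120 ≤ Nat.card L) :
    L = Cfsg.spGL 2 F ∨
      Nonempty (↥L ≃* ↥(alternatingGroup (Fin 6))) ∨ Nonempty (↥L ≃* Equiv.Perm (Fin 5)) := by
  obtain ⟨e₀⟩ := exists_spGL_equiv (F := F) 2
  obtain ⟨e₁⟩ := S0247.result hF
  set e := e₀.trans e₁
  set H := (L.subgroupOf (Cfsg.spGL 2 F)).map e.toMonoidHom with hH
  have eL : L ≃* H := (Subgroup.subgroupOfEquivOfLe hle).symm.trans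
    ((L.subgroupOf (Cfsg.spGL 2 F)).equivMapOfInjective e.toMonoidHom e.injective)
  have hcard : Nat.card H * H.index = 720 := by
    rw [Subgroup.card_mul_index, Nat.card_perm, Nat.card_fin]
    rfl
  rw [Nat.card_congr eL.toEquiv] at h
  have hidx : H.index ≤ 6 := by nlinarith
  by_cases htop : H = ⊤
  · refine Or.inl (le_antisymm hle fun g hg => ?_)
    have : (e ⟨g, hg⟩) ∈ H := htop ▸ Subgroup.mem_top _
    rw [hH, Subgroup.mem_map_equiv, e.symm_apply_apply] at this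
    exact this
  by_cases halt : H = alternatingGroup (Fin 6)
  · exact Or.inr (Or.inl ⟨eL.trans (MulEquiv.subgroupCongr halt)⟩)
  have := Cfsg.Agent.Perm.IndexDegree.index_ge (Ω := Fin 6) (by simp) htop halt
  rw [Fintype.card_fin] at this
  obtain ⟨e5⟩ := Cfsg.Agent.Perm.IndexSix.mulEquiv_perm_five (Ω := Fin 6) (by simp) (H := H) (by omega)
  exact Or.inr (Or.inr ⟨eL.trans e5⟩)

end Cfsg.Agent.Forms.Max.TwoRoot
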