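import Mathlib
import Cfsg.Agent.Lib.Forms.QuadStd
import Cfsg.Agent.Lib.Forms.Max.TwoRoot.Small.Frame
import Cfsg.Agent.Lib.Forms.Max.TwoRoot.Small.Large

/-!
# The four-dimensional case over two elements
-/

set_option autoImplicit false
set_option linter.unusedSectionVars false

namespace Cfsg.Agent.Forms.Max.TwoRoot

open Matrix Cfsg.Agent.Aschbacher Cfsg.Agent.Forms.SympStd Cfsg.Agent.Forms.Max Codes
open Cfsg.Agent.Forms.QuadStd

variable {F : Type*} [Field F] [CharP F 2] [Fintype F]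

local notation "Vec" => (Fin 2 ⊕ Fin 2 → F)
local notation "GLm" => GL (Fin 2 ⊕ Fin 2) F
local notation "B" => sympB 2 F
local notation "Mat" => Matrix (Fin 2 ⊕ Fin 2) (Fin 2 ⊕ Fin 2) F

theorem app_lt (n x : ℕ) : app n x < 16 := by
  have h : ∀ (t : Bool) (y : ℕ), sc t (y % 16) < 2 ^ 4 := fun t y => by
    cases t <;> simp only [sc, cond_true, cond_false] <;> omega
  exact Nat.xor_lt_two_pow (n := 4) (h _ _)
    (Nat.xor_lt_two_pow (h _ _) (Nat.xor_lt_two_pow (h _ _) (h _ _)))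

namespace Frame

variable (f : Frame F) (hF : Fintype.card F = 2)

/-- the quadratic form of two parameters in a frame -/
noncomputable def quad (ge gh : Bool) : QuadraticForm F Vec where
  toFun v := bc (qf ge gh (f.enc hF v))
  toFun_smul t v := by
    obtain ⟨p, rfl⟩ := bc_surj hF t
    cases p
    · have : f.enc hF (0 : Vec) = 0 := by
        rw [← f.enc_vec hF (x := 0) (by norm_num)]
        simp [vec, bc]
      simp [bc, this, qf]
    · simp [bc]
  exists_companion' := ⟨B, fun v w => by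
    have hl := f.enc_lt hF
    have e : f.enc hF (v + w) = f.enc hF v ^^^ f.enc hF w := by
      refine f.vec_inj (hl _) (Nat.xor_lt_two_pow (n := 4) (hl v) (hl w)) ?_
      rw [f.vec_xor, f.vec_enc, f.vec_enc, f.vec_enc]
    rw [e, qf_polar _ _ _ (hl v) _ (hl w), bc_xor, bc_xor, ← f.B_vec, f.vec_enc, f.vec_enc]⟩

theorem quad_polar (ge gh : Bool) (u v : Vec) :
    QuadraticMap.polar ⇑(f.quad hF ge gh) u v = B u v := by
  have hl := f.enc_lt hF
  have e : f.enc hF (u + v) = f.enc hF u ^^^ f.enc hF v := by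
    refine f.vec_inj (hl _) (Nat.xor_lt_two_pow (n := 4) (hl u) (hl v)) ?_
    rw [f.vec_xor, f.vec_enc, f.vec_enc, f.vec_enc]
  show bc (qf ge gh (f.enc hF (u + v))) - bc (qf ge gh (f.enc hF u)) - bc (qf ge gh (f.enc hF v)) = _
  rw [e, qf_polar _ _ _ (hl u) _ (hl v), bc_xor, bc_xor, ← f.B_vec, f.vec_enc, f.vec_enc]
  ring

theorem quad_vec (ge gh : Bool) {x : ℕ} (hx : x < 16) :
    f.quad hF ge gh (f.vec x) = bc (qf ge gh x) := by
  show bc (qf ge gh (f.enc hF (f.vec x))) = _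
  rw [f.enc_vec hF hx]

/-- the code of a map -/
noncomputable def code (g : GLm) : ℕ := mk fun x => f.enc hF ((g : Mat) *ᵥ f.vec x)

theorem real_code {L : Subgroup GLm} {g : GLm} (hg : g ∈ L) : f.Real L (f.code hF g) :=
  f.real_of_basis hg fun i _ => (f.vec_enc hF _).symm

theorem code_spec (g : GLm) (x : ℕ) : (g : Mat) *ᵥ f.vec x = f.vec (app (f.code hF g) x) := by
  obtain ⟨-, g', hg', h⟩ := f.real_code hF (L := Subgroup.closure {g}) (Subgroup.subset_closure rfl)
  have hb : g = g' := f.ext_basis hF fun i hi => by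
    rw [h, code, app_mk _ hi, f.vec_mod, f.vec_enc]
  rw [← h, ← hb]

theorem code_mem_iso {ge gh : Bool} {g : GLm} (hg : g ∈ Cfsg.spGL 2 F)
    (hQ : ∀ v, f.quad hF ge gh ((g : Mat) *ᵥ v) = f.quad hF ge gh v) :
    f.code hF g ∈ iso ge gh := by
  set φ := fun x => f.enc hF ((g : Mat) *ᵥ f.vec x) with hφ
  have hl : ∀ x, φ x < 16 := fun x => f.enc_lt hF _
  have hq : ∀ i, i < 16 → φ i ∈ (List.range 16).filter (fun x => qf ge gh x == qf ge gh i) :=
    fun i hi => List.mem_filter.2 ⟨List.mem_range.2 (hl i), beq_iff_eq.2 (bc_inj (F := F) (by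
      rw [← f.quad_vec hF _ _ (hl i), ← f.quad_vec hF _ _ hi, hφ, f.vec_enc, hQ]))⟩
  have hbf : ∀ i j, bf (φ i) (φ j) = bf i j := fun i j => bc_inj (F := F) (by
    rw [← f.B_vec, hφ, f.vec_enc, f.vec_enc, Symp.mem_spGL_iff.1 hg, f.B_vec])
  have hc : f.code hF g = φ 1 + 16 * φ 2 + 256 * φ 4 + 4096 * φ 8 := by
    rw [code, mk, Nat.mod_eq_of_lt (hl 1), Nat.mod_eq_of_lt (hl 2), Nat.mod_eq_of_lt (hl 4),
      Nat.mod_eq_of_lt (hl 8)]
  rw [hc, iso]
  refine List.mem_flatMap.2 ⟨φ 1, hq 1 (by norm_num), List.mem_flatMap.2 ⟨φ 2, hq 2 (by norm_num), ?_⟩⟩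
  rw [hbf, show bf 1 2 = false by decide, cond_false]
  refine List.mem_flatMap.2 ⟨φ 4, hq 4 (by norm_num), ?_⟩
  rw [hbf, hbf, show (!(bf 1 4) || bf 2 4) = false by decide, cond_false]
  refine List.mem_map.2 ⟨φ 8, List.mem_filter.2 ⟨hq 8 (by norm_num), ?_⟩, rfl⟩
  rw [hbf, hbf, hbf]
  decide

theorem evenFix_iff (g : GLm) :
    evenFix (f.code hF g) = true ↔ Even ((g : Mat) - 1).rank := by
  classical
  set n := f.code hF g
  obtain ⟨K, hKdef⟩ : ∃ K, K = LinearMap.ker ((g : Mat) - 1).mulVecLin := ⟨_, rfl⟩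
  have hK : ∀ v, v ∈ K ↔ (g : Mat) *ᵥ v = v := fun v => by
    rw [hKdef, LinearMap.mem_ker, Matrix.mulVecLin_apply, sub_mulVec, one_mulVec, sub_eq_zero]
  have hl : ∀ x, app n x % 16 = app n x := fun x => Nat.mod_eq_of_lt (app_lt n x)
  have h1 : ((List.range 16).filter fun x => app n x == x).length = Nat.card K := by
    rw [← List.toFinset_card_of_nodup (List.nodup_range.filter _), ← Nat.card_eq_finsetCard]
    refine Nat.card_congr (Equiv.ofBijective (fun x => ⟨f.vec x.1, ?_⟩) ⟨fun x y h => ?_, fun v => ?_⟩)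
    · have hx := List.mem_filter.1 (List.mem_toFinset.1 x.2)
      rw [hK, f.code_spec hF, beq_iff_eq.1 hx.2]
    · exact Subtype.ext (f.vec_inj (List.mem_range.1 (List.mem_filter.1 (List.mem_toFinset.1 x.2)).1)
        (List.mem_range.1 (List.mem_filter.1 (List.mem_toFinset.1 y.2)).1) (congrArg Subtype.val h))
    · refine ⟨⟨f.enc hF v.1, List.mem_toFinset.2 (List.mem_filter.2
        ⟨List.mem_range.2 (f.enc_lt hF _), beq_iff_eq.2 (f.vec_inj (app_lt _ _) (f.enc_lt hF _) ?_)⟩)⟩,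
        Subtype.ext (f.vec_enc hF _)⟩
      rw [← f.code_spec hF, f.vec_enc, (hK _).1 v.2]
  have h2 := LinearMap.finrank_range_add_finrank_ker ((g : Mat) - 1).mulVecLin
  rw [finrank_vec, ← hKdef] at h2
  have h3 : Nat.card K = 2 ^ Module.finrank F K := by
    rw [Module.natCard_eq_pow_finrank (K := F), Nat.card_eq_fintype_card, hF]
  have hr : ((g : Mat) - 1).rank = 4 - Module.finrank F K := by
    rw [Matrix.rank]
    omega
  have hk : Module.finrank F K ≤ 4 := by omega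
  rw [evenFix, h1, h3, hr]
  generalize Module.finrank F K = k at hk
  interval_cases k <;> decide

end Frame

namespace Setup

variable {S : Setup F 2}

theorem exists_frame : ∃ f : Frame F, S.Centre f.a ∧ S.Centre f.b := by
  obtain ⟨b, hb, hab⟩ := exists_opp S.centre_self
  obtain ⟨e, he0, hae, hbe⟩ := exists_perp S.hm S.a b
  obtain ⟨y, hey⟩ : ∃ y, B e y ≠ 0 := by
    by_contra h
    push Not at h
    exact he0 (Symp.nondeg.1 e h)
  obtain ⟨h, hah, hbh, hyd⟩ := decomp hab y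
  have heh : B e h ≠ 0 := fun h0 => hey (by
    rw [hyd]; simp [B_comm S.a e, B_comm b e, hae, hbe, h0])
  exact ⟨⟨S.a, e, b, (B e h)⁻¹ • h, hab, by rw [map_smul, smul_eq_mul, inv_mul_cancel₀ heh],
    hae, by rw [map_smul, hah, smul_zero], hbe, by rw [map_smul, hbh, smul_zero]⟩, S.centre_self, hb⟩

theorem small_cases (hF : Fintype.card F = 2) :
    S.L = Cfsg.spGL 2 F ∨
    (∃ Q : QuadraticForm F Vec, (∀ u v, QuadraticMap.polar ⇑Q u v = B u v) ∧
      (S.L = Cfsg.isometryGroup F ⇑Q ∨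
        ∀ g : GLm, g ∈ S.L ↔ (g ∈ Cfsg.isometryGroup F ⇑Q ∧ Even ((g : Mat) - 1).rank))) ∨
    (Nonempty (↥S.L ≃* ↥(alternatingGroup (Fin 6))) ∨ Nonempty (↥S.L ≃* Equiv.Perm (Fin 5))) := by
  classical
  by_cases hbig : 120 ≤ Nat.card S.L
  · rcases large_cases hF S.le hbig with h | h
    exacts [Or.inl h, Or.inr (Or.inr h)]
  obtain ⟨f, hca, hcb⟩ := exists_frame (S := S)
  have lift : ∀ c w : ℕ, S.Centre (f.vec c) → bf c w = false →
      ∃ t, f.Real S.L (Codes.mk (elc c w t)) := fun c w hc hcw => by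
    obtain ⟨α, hα⟩ := centre_lift hc (w := f.vec w) (by rw [f.B_vec, hcw]; rfl)
    obtain ⟨t, rfl⟩ := bc_surj hF α
    exact ⟨t, f.real_el hcw hα⟩
  obtain ⟨ge, hge⟩ := lift 1 2 (by rw [f.vec_one]; exact hca) (by decide)
  obtain ⟨gh, hgh⟩ := lift 1 8 (by rw [f.vec_one]; exact hca) (by decide)
  obtain ⟨de, hde⟩ := lift 4 2 (by rw [f.vec_four]; exact hcb) (by decide)
  obtain ⟨dh, hdh⟩ := lift 4 8 (by rw [f.vec_four]; exact hcb) (by decide)
  have hreal : ∀ n ∈ grp ge gh de dh, f.Real S.L n := by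
    refine grow_prop (P := f.Real S.L) 120 (fun s hs g hg => f.real_comp ?_ hg) 12 [idc] [idc] ?_ ?_
    · simp only [gens, List.mem_cons, List.not_mem_nil, or_false] at hs
      rcases hs with rfl | rfl | rfl | rfl <;> assumption
    all_goals exact fun g hg => (List.mem_singleton.1 hg) ▸ f.real_idc
  by_cases hne : (ge, gh) = (de, dh)
  swap
  · exfalso
    obtain ⟨h1, h2⟩ := grp_ne ge gh de dh hne
    exact hbig (h1.trans (f.card_le hF hreal (nodupB_iff h2)))
  obtain ⟨rfl, rfl⟩ := Prod.mk_inj.1 hne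
  obtain ⟨hnd, hiso, hpres⟩ := grp_eq ge gh
  set Q := f.quad hF ge gh with hQdef
  have hQb : ∀ v, Q v = bc (qf ge gh (f.enc hF v)) := fun v => rfl
  -- the group preserves the form
  have hO : ∀ g ∈ S.L, ∀ v, Q ((g : Mat) *ᵥ v) = Q v := by
    intro g hg
    by_contra hcon
    let d : ℕ → Bool := fun x => xor (qf ge gh (f.enc hF ((g : Mat) *ᵥ f.vec x))) (qf ge gh x)
    let v : ℕ := sc (d 4) 1 ^^^ (sc (d 8) 2 ^^^ (sc (d 1) 4 ^^^ sc (d 2) 8))
    have hv : v < 16 ∧ bf v 1 = d 1 ∧ bf v 2 = d 2 ∧ bf v 4 = d 4 ∧ bf v 8 = d 8 := by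
      simp only [v]
      generalize d 1 = p; generalize d 2 = q; generalize d 4 = r; generalize d 8 = s
      revert p q r s; decide
    set w := f.vec v with hw
    have hD : ∀ u, Q ((g : Mat) *ᵥ u) = Q u + B w u := by
      have hbase : ∀ i ∈ [1, 2, 4, 8], Q ((g : Mat) *ᵥ f.vec i) = Q (f.vec i) + B w (f.vec i) := by
        intro i hi
        have hi16 : i < 16 := by
          simp only [List.mem_cons, List.not_mem_nil, or_false] at hi
          omega
        have hvi : bf v i = d i := by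
          simp only [List.mem_cons, List.not_mem_nil, or_false] at hi
          rcases hi with rfl | rfl | rfl | rfl
          exacts [hv.2.1, hv.2.2.1, hv.2.2.2.1, hv.2.2.2.2]
        rw [hQb, hQb, f.enc_vec hF hi16, hw, f.B_vec, hvi, bc_xor]
        linear_combination -(bc (qf ge gh i) : F) * CharTwo.two_eq_zero (R := F)
      have hadd : ∀ u u', Q ((g : Mat) *ᵥ u) = Q u + B w u → Q ((g : Mat) *ᵥ u') = Q u' + B w u' →
          Q ((g : Mat) *ᵥ (u + u')) = Q (u + u') + B w (u + u') := fun u u' h h' => by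
        rw [mulVec_add, Q_add (f.quad_polar hF ge gh), Q_add (f.quad_polar hF ge gh), h, h',
          Symp.mem_spGL_iff.1 (S.le hg), map_add]
        ring
      have hsc : ∀ (t : Bool) u, Q ((g : Mat) *ᵥ u) = Q u + B w u →
          Q ((g : Mat) *ᵥ ((bc t : F) • u)) = Q ((bc t : F) • u) + B w ((bc t : F) • u) := fun t u h => by
        rw [mulVec_smul, Q_smul, Q_smul, map_smul, smul_eq_mul, h]
        cases t <;> simp [bc]
      intro u
      rw [← f.vec_enc hF u, f.vec_bits]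
      exact hadd _ _ (hadd _ _ (hadd _ _ (hsc _ _ (hbase 1 (by simp))) (hsc _ _ (hbase 2 (by simp))))
        (hsc _ _ (hbase 4 (by simp)))) (hsc _ _ (hbase 8 (by simp)))
    have hv0 : v ≠ 0 := fun h0 => hcon fun u => by
      rw [hD, hw, h0, show f.vec 0 = 0 by simp [Frame.vec, bc], map_zero, LinearMap.zero_apply, add_zero]
    let key : GLm → ℕ := fun h => mask fun x => qf ge gh (f.enc hF ((h : Mat) *ᵥ f.vec x))
    have mask_congr : ∀ p q : ℕ → Bool, (∀ x < 16, p x = q x) → mask p = mask q := fun p q h =>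
      List.foldl_ext _ _ _ fun s x hx => by rw [h x (List.mem_range.1 hx)]
    have hrep : ∀ k ∈ forms ge gh v, ∃ h ∈ S.L, key h = k := by
      intro k hk
      rcases addNew_sub [] _ _ k hk with h | h
      · simp at h
      rcases List.mem_cons.1 h with rfl | h
      · exact ⟨1, one_mem _, mask_congr _ _ fun x hx => by rw [Units.val_one, one_mulVec, f.enc_vec hF hx]⟩
      · obtain ⟨n, hn, rfl⟩ := List.mem_map.1 h
        obtain ⟨-, gm, hgm, hgmx⟩ := hreal n hn
        refine ⟨g * gm, mul_mem hg hgm, mask_congr _ _ fun x hx => bc_inj (F := F) ?_⟩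
        rw [← hQb, mulVec_mul_GL, hD, hgmx, hQb, f.enc_vec hF (app_lt n x), hw, f.B_vec, ← bc_xor]
    let ι : {k // k ∈ (forms ge gh v).toFinset} × {n // n ∈ (grp ge gh ge gh).toFinset} → S.L :=
      fun p => ⟨(hreal p.2.1 (List.mem_toFinset.1 p.2.2)).2.choose *
        (hrep p.1.1 (List.mem_toFinset.1 p.1.2)).choose,
        mul_mem (hreal p.2.1 (List.mem_toFinset.1 p.2.2)).2.choose_spec.1
          (hrep p.1.1 (List.mem_toFinset.1 p.1.2)).choose_spec.1⟩
    have hkey : ∀ n ∈ grp ge gh ge gh, ∀ (h gn : GLm),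
        (∀ x, (gn : Mat) *ᵥ f.vec x = f.vec (app n x)) → key (gn * h) = key h := fun n hn h gn hgn =>
      mask_congr _ _ fun x _ => bc_inj (F := F) (by
        rw [← hQb, ← hQb, mulVec_mul_GL, ← f.vec_enc hF ((h : Mat) *ᵥ f.vec x), hgn, hQb, hQb,
          f.enc_vec hF (app_lt _ _), f.enc_vec hF (f.enc_lt hF _), hpres n hn _ (f.enc_lt hF _)])
    have hι : Function.Injective ι := fun p p' h => by
      have h' := congrArg Subtype.val h
      have hn := (hreal p.2.1 (List.mem_toFinset.1 p.2.2))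
      have hn' := (hreal p'.2.1 (List.mem_toFinset.1 p'.2.2))
      have hk : p.1 = p'.1 := Subtype.ext (by
        have := congrArg key h'
        rwa [hkey _ (List.mem_toFinset.1 p.2.2) _ _ hn.2.choose_spec.2,
          hkey _ (List.mem_toFinset.1 p'.2.2) _ _ hn'.2.choose_spec.2,
          (hrep p.1.1 (List.mem_toFinset.1 p.1.2)).choose_spec.2,
          (hrep p'.1.1 (List.mem_toFinset.1 p'.1.2)).choose_spec.2] at this)
      refine Prod.ext hk ?_
      simp only [ι, hk] at h'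
      have hg' := mul_right_cancel h'
      refine Subtype.ext (f.code_inj hn.1 hn'.1 fun i _ => ?_)
      rw [← hn.2.choose_spec.2 i, ← hn'.2.choose_spec.2 i, hg']
    have hc := Nat.card_le_card_of_injective ι hι
    rw [Nat.card_prod, Nat.card_eq_finsetCard, Nat.card_eq_finsetCard,
      List.toFinset_card_of_nodup (l := forms ge gh v) (addNew_nodup _ _ _ List.nodup_nil),
      List.toFinset_card_of_nodup (nodupB_iff hnd)] at hc
    exact hbig ((forms_large ge gh v hv.1 hv0).trans hc)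
  have hcode : ∀ g, g ∈ Cfsg.spGL 2 F → (∀ v, Q ((g : Mat) *ᵥ v) = Q v) → f.code hF g ∈ iso ge gh :=
    fun g hg h => f.code_mem_iso hF hg h
  have hin : ∀ g, f.code hF g ∈ grp ge gh ge gh → g ∈ S.L := fun g hg => by
    obtain ⟨-, g', hg', hx⟩ := hreal _ hg
    have : g = g' := f.ext_basis hF fun i _ => by rw [f.code_spec hF, hx]
    exact this ▸ hg'
  have hsp : ∀ g : GLm, (∀ v, Q ((g : Mat) *ᵥ v) = Q v) → g ∈ Cfsg.spGL 2 F := fun g h =>
    Symp.mem_spGL_iff.2 fun u w => by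
      rw [← f.quad_polar hF ge gh, ← f.quad_polar hF ge gh, QuadraticMap.polar, QuadraticMap.polar,
        ← mulVec_add, h, h, h]
  refine Or.inr (Or.inl ⟨Q, f.quad_polar hF ge gh, ?_⟩)
  by_cases hodd : ∃ g ∈ S.L, f.code hF g ∉ grp ge gh ge gh
  · left
    refine le_antisymm (fun g hg => (mem_isometry_iff _ _).2 (hO g hg)) fun g hg => ?_
    obtain ⟨g₀, hg₀, hodd⟩ := hodd
    have hgQ := (mem_isometry_iff _ _).1 hg
    by_cases hgM : f.code hF g ∈ grp ge gh ge gh
    · exact hin g hgM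
    have key : ∀ k : GLm, (∀ v, Q ((k : Mat) *ᵥ v) = Q v) → f.code hF k ∉ grp ge gh ge gh →
        ∃ k' ∈ S.L, ∀ i ∈ [1, 2, 4, 8],
          (k' : Mat) *ᵥ f.vec i = (k : Mat) *ᵥ f.vec (app (refl ge gh) i) := by
      intro k hk hkM
      obtain ⟨-, k', hk', hx⟩ := hreal _ ((hiso _ (hcode k (hsp k hk) hk)).2.1 hkM)
      exact ⟨k', hk', fun i hi => by rw [hx, Codes.comp, Frame.app_mk _ hi, f.vec_mod, f.code_spec hF]⟩
    obtain ⟨g₁, hg₁, h₁⟩ := key g₀ (hO g₀ hg₀) hodd
    obtain ⟨g₂, hg₂, h₂⟩ := key g hgQ hgM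
    have e : g⁻¹ * g₂ = g₀⁻¹ * g₁ := f.ext_basis hF fun i hi => by
      rw [mulVec_mul_GL, mulVec_mul_GL, h₂ i hi, h₁ i hi, inv_mulVec_cancel, inv_mulVec_cancel]
    have : g = g₂ * (g₀⁻¹ * g₁)⁻¹ := by rw [← e]; group
    rw [this]
    exact mul_mem hg₂ (inv_mem (mul_mem (inv_mem hg₀) hg₁))
  · right
    push Not at hodd
    intro g
    constructor
    · intro hg
      exact ⟨(mem_isometry_iff _ _).2 (hO g hg), (f.evenFix_iff hF g).1
        ((hiso _ (hcode g (S.le hg) (hO g hg))).1.2 (hodd g hg))⟩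
    · rintro ⟨hg, hev⟩
      have hgQ := (mem_isometry_iff _ _).1 hg
      exact hin g ((hiso _ (hcode g (hsp g hgQ) hgQ)).1.1 ((f.evenFix_iff hF g).2 hev))

end Setup

end Cfsg.Agent.Forms.Max.TwoRoot
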